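import Mathlib.LinearAlgebra.ExteriorPower.Basis
import Mathlib.LinearAlgebra.PiTensorProduct
import Mathlib.LinearAlgebra.Determinant
import Mathlib.LinearAlgebra.TensorPower.Basic
import Mathlib.RingTheory.Norm.Transitivity
import Mathlib.RingTheory.Localization.Away.Basic

/-!
Determinants of finite projective algebras, computed with frames: generators of modules up to a power of a scalar.
-/

set_option autoImplicit false
set_option linter.style.haveILetI false

universe u v w

open scoped TensorProduct

namespace Groth.Agent.NormDetLib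

/-- A basis of `P` up to the scalar `g`. -/
structure Frame {R : Type u} [CommRing R] (g : R) (P : Type v) [AddCommGroup P] [Module R P] (ι : Type w)
    [Fintype ι] [DecidableEq ι] where
  e : ι → P
  φ : P →ₗ[R] ι → R
  sum_eq : ∀ p, ∑ i, φ p i • e i = g • p
  apply_e : ∀ i j, φ (e i) j = if i = j then g else 0

/-- `t` generates `T` freely up to powers of `f`. -/
def IsGen {A : Type u} [CommRing A] (f : A) {T : Type v} [AddCommGroup T] [Module A T] (t : T) : Prop :=
  ∃ (φ : T →ₗ[A] A) (s : ℕ), φ t = f ^ s ∧ ∀ z, φ z • t = f ^ s • z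

section General

variable {R : Type u} [CommRing R] {P Q : Type v} [AddCommGroup P] [Module R P] [AddCommGroup Q] [Module R Q]
  {ι : Type w} [Fintype ι] [DecidableEq ι] {g : R}

/-- Scale a frame. -/
def Frame.rescale (F : Frame g P ι) (c : R) : Frame (g * c) P ι where
  e := F.e
  φ := c • F.φ
  sum_eq p := by
    have h := congrArg (c • ·) (F.sum_eq p)
    simp only [Finset.smul_sum, smul_smul] at h
    simpa [smul_smul, mul_comm] using h
  apply_e i j := by
    simp only [LinearMap.smul_apply, Pi.smul_apply, F.apply_e, smul_eq_mul]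
    split_ifs <;> simp [mul_comm]

/-- Change the scalar along an equality. -/
def Frame.cast (F : Frame g P ι) {g' : R} (h : g = g') : Frame g' P ι where
  e := F.e
  φ := F.φ
  sum_eq p := h ▸ F.sum_eq p
  apply_e i j := h ▸ F.apply_e i j

/-- The frame of a generator up to `g`. -/
def Frame.ofGen (t : P) (φ : P →ₗ[R] R) (h1 : φ t = g) (h2 : ∀ z, φ z • t = g • z) : Frame g P (Fin 1) where
  e := fun _ => t
  φ := LinearMap.pi fun _ => φ
  sum_eq p := by simpa using h2 p
  apply_e i j := by simp [Subsingleton.elim i j, h1]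

theorem wedge_std {N : ℕ} (v : Fin N → Fin N → R) :
    exteriorPower.ιMulti R N v =
      (Matrix.of v).det • exteriorPower.ιMulti R N (Pi.basisFun R (Fin N) : Fin N → Fin N → R) := by
  classical
  suffices h : exteriorPower.ιMulti R N = (LinearMap.toSpanSingleton R _
      (exteriorPower.ιMulti R N (Pi.basisFun R (Fin N) : Fin N → Fin N → R))).compAlternatingMap
        (Pi.basisFun R (Fin N)).det by
    rw [← Pi.basisFun_det_apply]
    exact congrArg (fun g : (Fin N → R) [⋀^Fin N]→ₗ[R] ⋀[R]^N (Fin N → R) => g v) h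
  refine (Pi.basisFun R (Fin N)).ext_alternating fun w hw => ?_
  let σ := Equiv.ofBijective w (Finite.injective_iff_bijective.1 hw)
  show exteriorPower.ιMulti R N ((Pi.basisFun R (Fin N)) ∘ σ) =
    (Pi.basisFun R (Fin N)).det ((Pi.basisFun R (Fin N)) ∘ σ) • _
  rw [AlternatingMap.map_perm, AlternatingMap.map_perm, Module.Basis.det_self]
  simp

/-- Vectors written, up to `g`, as combinations of `w` have wedge a multiple of the wedge of `w`. -/
theorem pow_smul_ιMulti {N : ℕ} (v w : Fin N → P) (C : Matrix (Fin N) (Fin N) R) (g : R)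
    (h : ∀ a, g • v a = ∑ b, C a b • w b) :
    g ^ N • exteriorPower.ιMulti R N v = C.det • exteriorPower.ιMulti R N w := by
  classical
  let π : (Fin N → R) →ₗ[R] P := Fintype.linearCombination R w
  have h1 : (exteriorPower.ιMulti R N fun a => g • v a) = g ^ N • exteriorPower.ιMulti R N v := by
    have := (exteriorPower.ιMulti R N (M := P)).toMultilinearMap.map_smul_univ (fun _ => g) v
    simpa [Finset.prod_const] using this
  have h2 : (fun a => g • v a) = π ∘ fun a => C a := by
    funext a
    simp [π, Fintype.linearCombination_apply, h a]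
  have h3 : π ∘ (Pi.basisFun R (Fin N) : Fin N → Fin N → R) = w := by
    funext b
    simp [π, Pi.basisFun_apply, Fintype.linearCombination_apply_single]
  rw [← h1, h2, ← exteriorPower.map_apply_ιMulti, wedge_std, map_smul, exteriorPower.map_apply_ιMulti, h3]
  rfl

/-- The top exterior power of a module with a frame. -/
theorem Frame.isGen_top {f : R} {s : ℕ} (F : Frame g P ι) (hg : g = f ^ s) {N : ℕ} (e : ι ≃ Fin N) :
    IsGen f (exteriorPower.ιMulti R N (F.e ∘ e.symm)) := by
  classical
  let ρ : P →ₗ[R] Fin N → R := LinearMap.funLeft R R e.symm ∘ₗ F.φ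
  let D : ↥(⋀[R]^N P) →ₗ[R] R :=
    exteriorPower.alternatingMapLinearEquiv ((Pi.basisFun R (Fin N)).det.compLinearMap ρ)
  have hD : ∀ v : Fin N → P, D (exteriorPower.ιMulti R N v) = (Matrix.of fun a b => F.φ (v a) (e.symm b)).det :=
    fun v => by
      simp only [D, exteriorPower.alternatingMapLinearEquiv_apply_ιMulti, AlternatingMap.compLinearMap_apply,
        Pi.basisFun_det_apply]
      rfl
  refine ⟨D, s * N, ?_, fun z => ?_⟩
  · rw [hD]
    have : (Matrix.of fun a b => F.φ ((F.e ∘ e.symm) a) (e.symm b)) = Matrix.diagonal fun _ : Fin N => g := by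
      ext a b
      simp [F.apply_e, Matrix.diagonal_apply, e.symm.injective.eq_iff]
    rw [this, Matrix.det_diagonal, Finset.prod_const, Finset.card_univ, Fintype.card_fin, hg, ← pow_mul]
  · have h : LinearMap.smulRight D (exteriorPower.ιMulti R N (F.e ∘ e.symm)) = (f ^ (s * N)) • LinearMap.id := by
      refine exteriorPower.linearMap_ext (AlternatingMap.ext fun v => ?_)
      simp only [LinearMap.compAlternatingMap_apply, LinearMap.smulRight_apply, LinearMap.smul_apply,
        LinearMap.id_coe, id_eq, hD]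
      rw [pow_mul, ← hg, pow_smul_ιMulti v (F.e ∘ e.symm) _ g fun a => ?_]
      rw [← F.sum_eq, ← Equiv.sum_comp e.symm]
      rfl
    exact LinearMap.congr_fun h z

theorem IsGen.tensor {f : R} {t : P} {t' : Q} (ht : IsGen f t) (ht' : IsGen f t') :
    IsGen f (t ⊗ₜ[R] t') := by
  obtain ⟨φ, s, h1, h2⟩ := ht
  obtain ⟨ψ, s', h1', h2'⟩ := ht'
  refine ⟨LinearMap.mul' R R ∘ₗ TensorProduct.map φ ψ, s + s', by simp [h1, h1', pow_add], fun z => ?_⟩
  induction z using TensorProduct.induction_on with
  | zero => simp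
  | add x y hx hy => simp only [map_add, add_smul, smul_add, hx, hy]
  | tmul a b =>
    simp only [LinearMap.coe_comp, Function.comp_apply, TensorProduct.map_tmul, LinearMap.mul'_apply]
    rw [← TensorProduct.smul_tmul_smul, h2, h2', TensorProduct.smul_tmul_smul, pow_add]

theorem IsGen.tensorPower {f : R} {t : P} (ht : IsGen f t) (m : ℕ) :
    IsGen f (PiTensorProduct.tprod R (fun _ : Fin m => t)) := by
  classical
  obtain ⟨φ, s, h1, h2⟩ := ht
  let Φ : TensorPower R m P →ₗ[R] R :=
    PiTensorProduct.lift ((MultilinearMap.mkPiAlgebra R (Fin m) R).compLinearMap fun _ => φ)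
  refine ⟨Φ, s * m, by simp [Φ, h1, ← pow_mul], fun z => ?_⟩
  have h : LinearMap.smulRight Φ (PiTensorProduct.tprod R fun _ : Fin m => t) = (f ^ (s * m)) • LinearMap.id := by
    refine PiTensorProduct.ext (MultilinearMap.ext fun v => ?_)
    simp only [LinearMap.compMultilinearMap_apply, LinearMap.smulRight_apply, LinearMap.smul_apply,
      LinearMap.id_coe, id_eq, Φ, PiTensorProduct.lift.tprod, MultilinearMap.compLinearMap_apply,
      MultilinearMap.mkPiAlgebra_apply]
    rw [← MultilinearMap.map_smul_univ]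
    simp only [h2]
    rw [MultilinearMap.map_smul_univ]
    simp [← pow_mul]
  exact LinearMap.congr_fun h z

/-- Two modules with compatible local generators given by a global family of pairs are isomorphic. -/
theorem nonempty_equiv_of_pairs {T₁ T₂ : Type v} [AddCommGroup T₁] [Module R T₁] [AddCommGroup T₂] [Module R T₂]
    {κ : Type w} (pair : κ → T₁ × T₂)
    (h : ∀ p : Ideal R, p.IsMaximal → ∃ f ∉ p, ∃ i₀, IsGen f (pair i₀).1 ∧ IsGen f (pair i₀).2 ∧
      ∀ i, ∃ (s : ℕ) (a : R), f ^ s • pair i = a • pair i₀) :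
    Nonempty (T₁ ≃ₗ[R] T₂) := by
  let Γ : Submodule R (T₁ × T₂) := Submodule.span R (Set.range pair)
  have key : ∀ (f : R) (i₀ : κ), (∀ i, ∃ (s : ℕ) (a : R), f ^ s • pair i = a • pair i₀) →
      ∀ γ ∈ Γ, ∃ (s : ℕ) (a : R), f ^ s • γ = a • pair i₀ := by
    intro f i₀ hi γ hγ
    induction hγ using Submodule.span_induction with
    | mem x hx =>
      obtain ⟨i, rfl⟩ := hx
      exact hi i
    | zero => exact ⟨0, 0, by simp⟩
    | add x y _ _ hx hy =>
      obtain ⟨s, a, ha⟩ := hx
      obtain ⟨s', a', ha'⟩ := hy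
      refine ⟨s + s', f ^ s' * a + f ^ s * a', ?_⟩
      rw [smul_add, add_smul, mul_smul, mul_smul, ← ha, ← ha', smul_smul, smul_smul, ← pow_add, ← pow_add,
        add_comm s']
    | smul c x _ hx =>
      obtain ⟨s, a, ha⟩ := hx
      exact ⟨s, c * a, by rw [smul_comm, ha, mul_smul]⟩
  have inj : ∀ {T : Type v} [AddCommGroup T] [Module R T] (π : (T₁ × T₂) →ₗ[R] T),
      (∀ p : Ideal R, p.IsMaximal → ∃ f ∉ p, ∃ i₀, IsGen f (π (pair i₀)) ∧
        ∀ i, ∃ (s : ℕ) (a : R), f ^ s • pair i = a • pair i₀) →
      Function.Bijective (π ∘ₗ Γ.subtype) := by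
    intro T _ _ π hπ
    constructor
    · refine (injective_iff_map_eq_zero _).2 fun γ hγ => ?_
      suffices (1 : R) ∈ LinearMap.ker (LinearMap.toSpanSingleton R _ γ) by simpa using this
      by_contra h1
      obtain ⟨p, hp, hle⟩ := Ideal.exists_le_maximal (LinearMap.ker (LinearMap.toSpanSingleton R _ γ))
        fun h => h1 (h ▸ trivial)
      obtain ⟨f, hf, i₀, ⟨φ, s', hφ, -⟩, hi⟩ := hπ p hp
      obtain ⟨s, a, ha⟩ := key f i₀ hi γ γ.2
      have ha0 : a * f ^ s' = 0 := by
        have h2 := congrArg π ha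
        rw [map_smul, map_smul, show π (γ : T₁ × T₂) = 0 from hγ, smul_zero] at h2
        have h3 := congrArg φ h2.symm
        rwa [map_smul, hφ, map_zero] at h3
      have : f ^ (s' + s) • γ = 0 := Subtype.ext (by
        rw [Submodule.coe_smul, pow_add, mul_smul, ha, smul_smul, mul_comm (f ^ s'), ha0, zero_smul,
          Submodule.coe_zero])
      exact hf (hp.isPrime.mem_of_pow_mem _ (hle (by simpa using this)))
    · intro z
      suffices (1 : R) ∈ (LinearMap.range (π ∘ₗ Γ.subtype)).comap (LinearMap.toSpanSingleton R _ z) by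
        simpa using this
      by_contra h1
      obtain ⟨p, hp, hle⟩ := Ideal.exists_le_maximal
        ((LinearMap.range (π ∘ₗ Γ.subtype)).comap (LinearMap.toSpanSingleton R _ z)) fun h => h1 (h ▸ trivial)
      obtain ⟨f, hf, i₀, ⟨φ, s', -, hφ⟩, -⟩ := hπ p hp
      refine hf (hp.isPrime.mem_of_pow_mem s' (hle ?_))
      refine ⟨φ z • ⟨pair i₀, Submodule.subset_span ⟨i₀, rfl⟩⟩, ?_⟩
      simp [hφ z]
  have b1 := inj (LinearMap.fst R T₁ T₂) fun p hp => by
    obtain ⟨f, hf, i₀, h1, -, h3⟩ := h p hp
    exact ⟨f, hf, i₀, h1, h3⟩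
  have b2 := inj (LinearMap.snd R T₁ T₂) fun p hp => by
    obtain ⟨f, hf, i₀, -, h2, h3⟩ := h p hp
    exact ⟨f, hf, i₀, h2, h3⟩
  exact ⟨(LinearEquiv.ofBijective _ b1).symm.trans (LinearEquiv.ofBijective _ b2)⟩

end General

section Algebra

variable {A : Type u} [CommRing A] {B : Type u} [CommRing B] [Algebra A B] {M : Type u} [AddCommGroup M]
  [Module A M] [Module B M] [IsScalarTower A B M]

/-- `b ↦ b • x`. -/
def mu (A : Type u) [CommRing A] {B : Type u} [CommRing B] [Algebra A B] {M : Type u} [AddCommGroup M]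
    [Module A M] [Module B M] [IsScalarTower A B M] (x : M) : B →ₗ[A] M :=
  (LinearMap.toSpanSingleton B M x).restrictScalars A

@[simp] theorem mu_apply (x : M) (b : B) : mu A x b = b • x := rfl

variable {ι κ : Type} [Fintype ι] [DecidableEq ι] [Fintype κ] [DecidableEq κ] {g g' : A}

/-- Frames over the algebra and of the algebra give frames over the base. -/
def Frame.comp (F : Frame (algebraMap A B g) M κ) (G : Frame g' B ι) : Frame (g * g') M (κ × ι) where
  e q := G.e q.2 • F.e q.1
  φ := LinearMap.pi fun q => LinearMap.proj q.2 ∘ₗ G.φ ∘ₗ ((LinearMap.proj q.1 ∘ₗ F.φ).restrictScalars A)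
  sum_eq p := by
    rw [Fintype.sum_prod_type]
    simp only [LinearMap.pi_apply, LinearMap.coe_comp, Function.comp_apply, LinearMap.coe_restrictScalars,
      LinearMap.coe_proj, Function.eval]
    simp only [← smul_assoc, ← Finset.sum_smul, G.sum_eq]
    simp only [smul_assoc, ← Finset.smul_sum, F.sum_eq, algebraMap_smul]
    rw [smul_smul, mul_comm]
  apply_e q q' := by
    simp only [LinearMap.pi_apply, LinearMap.coe_comp, Function.comp_apply, LinearMap.coe_restrictScalars,
      LinearMap.coe_proj, Function.eval, map_smul, F.apply_e, Pi.smul_apply, smul_eq_mul]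
    rcases eq_or_ne q.1 q'.1 with h | h
    · rw [if_pos h, mul_comm, ← Algebra.smul_def, map_smul, Pi.smul_apply, G.apply_e]
      by_cases h' : q.2 = q'.2
      · simp [Prod.ext_iff, h, h']
      · simp [Prod.ext_iff, h, h']
    · simp [h, Prod.ext_iff]

variable {n : ℕ}

/-- The matrix of multiplication by `b` in a frame of `B`. -/
def dMat (G : Frame g B (Fin n)) (b : B) : Matrix (Fin n) (Fin n) A := Matrix.of fun i j => G.φ (b * G.e i) j

theorem dMat_mul (G : Frame g B (Fin n)) (b c : B) : dMat G b * dMat G c = g • dMat G (b * c) := by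
  ext i j
  have h := congrArg (fun y => G.φ (c * y) j) (G.sum_eq (b * G.e i))
  simp only [Finset.mul_sum, mul_smul_comm, map_sum, map_smul, Finset.sum_apply, Pi.smul_apply, smul_eq_mul] at h
  simp only [Matrix.mul_apply, dMat, Matrix.of_apply, Matrix.smul_apply, smul_eq_mul, h]
  rw [mul_comm b c, mul_assoc]

/-- The top exterior power of multiplication by `b`. -/
theorem map_mul_top (G : Frame g B (Fin n)) (b : B) (x : M) :
    g ^ n • exteriorPower.map n (mu A (b • x)) (exteriorPower.ιMulti A n G.e) =
      (dMat G b).det • exteriorPower.map n (mu A x) (exteriorPower.ιMulti A n G.e) := by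
  rw [exteriorPower.map_apply_ιMulti, exteriorPower.map_apply_ιMulti]
  refine pow_smul_ιMulti _ _ _ g fun i => ?_
  simp only [Function.comp_apply, mu_apply, dMat, Matrix.of_apply]
  rw [smul_smul (G.e i), mul_comm (G.e i), ← smul_assoc, ← G.sum_eq, Finset.sum_smul]
  simp only [smul_assoc]

end Algebra

end Groth.Agent.NormDetLib
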