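import Groth.Agent.NormDetLib.Frames
import Mathlib.LinearAlgebra.ExteriorAlgebra.Grading

/-!
Block determinants of multiplication matrices and products of wedges.
-/

set_option autoImplicit false
set_option linter.style.haveILetI false
set_option maxHeartbeats 400000

universe u

open scoped TensorProduct

namespace Groth.Agent.NormDetLib

variable {A : Type u} [CommRing A] {B : Type u} [CommRing B] [Algebra A B] {g : A} {n : ℕ}

theorem ιMulti_smul_const {R : Type u} [CommRing R] {P : Type u} [AddCommGroup P] [Module R P] {N : ℕ} (c : R)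
    (v : Fin N → P) :
    exteriorPower.ιMulti R N (fun a => c • v a) = c ^ N • exteriorPower.ιMulti R N v := by
  simpa [Finset.prod_const] using (exteriorPower.ιMulti R N (M := P)).toMultilinearMap.map_smul_univ (fun _ => c) v

/-- Multiplication matrices after inverting the scalar of the frame. -/
noncomputable def matHom (G : Frame g B (Fin n)) : B →+* Matrix (Fin n) (Fin n) (Localization.Away g) where
  toFun b := (IsLocalization.Away.invSelf g : Localization.Away g) • (dMat G b).map (algebraMap A (Localization.Away g))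
  map_one' := by
    ext i j
    simp only [dMat, one_mul, G.apply_e, Matrix.smul_apply, Matrix.map_apply, Matrix.of_apply, smul_eq_mul,
      Matrix.one_apply]
    split_ifs
    · rw [mul_comm, IsLocalization.Away.mul_invSelf]
    · simp
  map_mul' b c := by
    have h := congrArg (algebraMap A (Localization.Away g)).mapMatrix (dMat_mul G b c)
    rw [map_mul, RingHom.mapMatrix_apply, RingHom.mapMatrix_apply, RingHom.mapMatrix_apply] at h
    rw [smul_mul_assoc, mul_smul_comm, smul_smul, h]
    ext i j
    simp only [Matrix.smul_apply, Matrix.map_apply, smul_eq_mul, map_mul]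
    have := IsLocalization.Away.mul_invSelf (S := Localization.Away g) g
    linear_combination (-(IsLocalization.Away.invSelf g : Localization.Away g) *
      algebraMap A (Localization.Away g) (dMat G (b * c) i j)) * this
  map_zero' := by ext i j; simp [dMat]
  map_add' b c := by ext i j; simp [dMat, add_mul, mul_add]

/-- The determinant of a matrix of multiplications is the norm of the determinant, up to powers of `g`. -/
theorem exists_det_block (G : Frame g B (Fin n)) {κ : Type} [Fintype κ] [DecidableEq κ] (Gm : Matrix κ κ B) :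
    ∃ s : ℕ, g ^ s * (g ^ (Fintype.card κ * n) * (dMat G Gm.det).det) =
      g ^ s * (g ^ n * (Matrix.comp κ κ (Fin n) (Fin n) A (Gm.map (dMat G))).det) := by
  let L := Localization.Away g
  let u : L := IsLocalization.Away.invSelf g
  have hu : algebraMap A L g * u = 1 := IsLocalization.Away.mul_invSelf g
  have h := Matrix.det_det (M := Gm) (matHom G)
  have h1 : (matHom G Gm.det).det = u ^ n * algebraMap A L (dMat G Gm.det).det := by
    show (u • (dMat G Gm.det).map (algebraMap A L)).det = _
    rw [Matrix.det_smul, RingHom.map_det, Fintype.card_fin]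
    rfl
  have h2 : (Matrix.comp κ κ (Fin n) (Fin n) L (Gm.map (matHom G))).det =
      u ^ (Fintype.card κ * n) * algebraMap A L (Matrix.comp κ κ (Fin n) (Fin n) A (Gm.map (dMat G))).det := by
    have : Matrix.comp κ κ (Fin n) (Fin n) L (Gm.map (matHom G)) =
        u • (Matrix.comp κ κ (Fin n) (Fin n) A (Gm.map (dMat G))).map (algebraMap A L) := by
      ext ⟨i, a⟩ ⟨j, b⟩
      rfl
    rw [this, Matrix.det_smul, RingHom.map_det, Fintype.card_prod, Fintype.card_fin]
    rfl
  rw [h1, h2] at h
  obtain ⟨⟨_, s, rfl⟩, hs⟩ := (IsLocalization.eq_iff_exists (Submonoid.powers g) L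
    (x := g ^ (Fintype.card κ * n) * (dMat G Gm.det).det)
    (y := g ^ n * (Matrix.comp κ κ (Fin n) (Fin n) A (Gm.map (dMat G))).det)).1 (by
      simp only [map_mul, map_pow]
      calc algebraMap A L g ^ (Fintype.card κ * n) * algebraMap A L (dMat G Gm.det).det
          = algebraMap A L g ^ (Fintype.card κ * n) * (algebraMap A L g * u) ^ n *
              algebraMap A L (dMat G Gm.det).det := by rw [hu, one_pow, mul_one]
        _ = algebraMap A L g ^ n * (algebraMap A L g * u) ^ (Fintype.card κ * n) *
              algebraMap A L (Matrix.comp κ κ (Fin n) (Fin n) A (Gm.map (dMat G))).det := by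
            rw [mul_pow, mul_pow]
            linear_combination (algebraMap A L g ^ (Fintype.card κ * n) * algebraMap A L g ^ n) * h
        _ = _ := by rw [hu, one_pow, mul_one])
  exact ⟨s, hs⟩

variable {M : Type u} [AddCommGroup M] [Module A M] [Module B M] [IsScalarTower A B M] {m : ℕ}

theorem prod_mem_exteriorPower {k : ℕ} (z : Fin k → ↥(⋀[A]^n M)) :
    (List.ofFn fun i => (z i : ExteriorAlgebra A M)).prod ∈ ⋀[A]^(k * n) M := by
  have := SetLike.list_prod_ofFn_mem_graded (A := fun i : ℕ => ⋀[A]^i M) (fun _ : Fin k => n)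
    (fun i => (z i : ExteriorAlgebra A M)) (fun i => (z i).2)
  simpa using this

/-- The product of the images of top wedges of `B`, in the exterior algebra. -/
noncomputable def prodWedgeAlg (x : Fin m → M) :
    MultilinearMap A (fun _ : Fin m => ↥(⋀[A]^n B)) (ExteriorAlgebra A M) :=
  (MultilinearMap.mkPiAlgebraFin A m (ExteriorAlgebra A M)).compLinearMap
    (fun i => (⋀[A]^n M).subtype ∘ₗ exteriorPower.map n (mu A (x i)))

theorem prodWedgeAlg_apply (x : Fin m → M) (z : Fin m → ↥(⋀[A]^n B)) :
    prodWedgeAlg x z = (List.ofFn fun i => (exteriorPower.map n (mu A (x i)) (z i) : ExteriorAlgebra A M)).prod := by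
  rw [prodWedgeAlg, MultilinearMap.compLinearMap_apply, MultilinearMap.mkPiAlgebraFin_apply]
  rfl

theorem prodWedgeAlg_mem (x : Fin m → M) (z : Fin m → ↥(⋀[A]^n B)) :
    prodWedgeAlg x z ∈ ⋀[A]^(m * n) M := by
  rw [prodWedgeAlg_apply]
  generalize hw : (fun i => exteriorPower.map n (mu A (x i)) (z i)) = w
  simp only [fun i => show exteriorPower.map n (mu A (x i)) (z i) = w i from congrFun hw i]
  exact prod_mem_exteriorPower w

/-- The product of the images of top wedges of `B`. -/
noncomputable def prodWedge (x : Fin m → M) :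
    MultilinearMap A (fun _ : Fin m => ↥(⋀[A]^n B)) ↥(⋀[A]^(m * n) M) :=
  MultilinearMap.codRestrict (prodWedgeAlg x) (⋀[A]^(m * n) M) (prodWedgeAlg_mem x)

theorem prodWedge_coe (x : Fin m → M) (z : Fin m → ↥(⋀[A]^n B)) :
    (prodWedge x z : ExteriorAlgebra A M) =
      (List.ofFn fun i => (exteriorPower.map n (mu A (x i)) (z i) : ExteriorAlgebra A M)).prod :=
  prodWedgeAlg_apply x z

theorem prodWedge_const (x : Fin m → M) (e : Fin n → B) :
    prodWedge x (fun _ => exteriorPower.ιMulti A n e) =
      exteriorPower.ιMulti A (m * n)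
        ((fun q : Fin m × Fin n => e q.2 • x q.1) ∘ (finProdFinEquiv (m := m) (n := n)).symm) := by
  apply Subtype.ext
  simp only [prodWedge_coe, exteriorPower.map_apply_ιMulti, exteriorPower.ιMulti_apply_coe,
    ExteriorAlgebra.ιMulti_apply]
  rw [List.ofFn_mul, List.prod_flatten, List.map_ofFn]
  congr 1
  refine List.ofFn_inj.2 (funext fun i => ?_)
  simp only [Function.comp_apply]
  congr 1
  refine List.ofFn_inj.2 (funext fun j => ?_)
  have : (finProdFinEquiv (m := m) (n := n)).symm ⟨i * n + j, by
      calc (i : ℕ) * n + j < (i + 1) * n := (Nat.add_lt_add_left j.prop _).trans_eq (by rw [Nat.add_mul, Nat.one_mul])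
        _ ≤ _ := Nat.mul_le_mul_right _ i.prop⟩ = (i, j) := by
    rw [Equiv.symm_apply_eq]
    ext
    simp [finProdFinEquiv, mul_comm, add_comm]
  rw [this]
  rfl

theorem prodWedge_blocks (G : Frame g B (Fin n)) (x x₀ : Fin m → M) (Gm : Matrix (Fin m) (Fin m) B)
    (hx : ∀ i, g • x i = ∑ l, Gm i l • x₀ l) :
    (g * g) ^ (m * n) • prodWedge x (fun _ => exteriorPower.ιMulti A n G.e) =
      (Matrix.comp (Fin m) (Fin m) (Fin n) (Fin n) A (Gm.map (dMat G))).det •
        prodWedge x₀ (fun _ => exteriorPower.ιMulti A n G.e) := by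
  rw [prodWedge_const, prodWedge_const, ← Matrix.det_submatrix_equiv_self (finProdFinEquiv (m := m) (n := n)).symm]
  refine pow_smul_ιMulti _ _ _ _ fun a => ?_
  rw [← Equiv.sum_comp (finProdFinEquiv (m := m) (n := n))]
  simp only [Matrix.submatrix_apply, Function.comp_apply, Equiv.symm_apply_apply, Fintype.sum_prod_type]
  generalize (finProdFinEquiv (m := m) (n := n)).symm a = q
  obtain ⟨i, j⟩ := q
  simp only [Matrix.comp_apply, Matrix.map_apply, dMat, Matrix.of_apply]
  simp only [← smul_assoc _ (G.e _), ← Finset.sum_smul, G.sum_eq]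
  rw [mul_smul, smul_assoc, smul_assoc, smul_comm g (G.e j) (x i), hx, Finset.smul_sum, Finset.smul_sum]
  refine Finset.sum_congr rfl fun l _ => ?_
  rw [smul_smul (G.e j), mul_comm (G.e j), smul_assoc g]

theorem map_smul_top {P Q : Type u} [AddCommGroup P] [Module A P] [AddCommGroup Q] [Module A Q] (c : A)
    (h : P →ₗ[A] Q) (e : Fin n → P) :
    exteriorPower.map n (c • h) (exteriorPower.ιMulti A n e) =
      c ^ n • exteriorPower.map n h (exteriorPower.ιMulti A n e) := by
  rw [exteriorPower.map_apply_ιMulti, exteriorPower.map_apply_ιMulti, ← ιMulti_smul_const]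
  rfl

theorem mu_smul (c : A) (x : M) : mu A (B := B) (c • x) = c • mu A x :=
  LinearMap.ext fun b => smul_comm b c x

/-- Frames of a module, of the algebra and of all their top wedges near a prime. -/
theorem exists_frames [Module.Finite A B] [Module.Projective A B] [Module.Finite B M] [Module.Projective B M] {k : ℕ}
    (hn : ∀ q : PrimeSpectrum A, Module.finrank (Localization.AtPrime q.asIdeal) (LocalizedModule q.asIdeal.primeCompl B) = n)
    (hM : ∀ q : PrimeSpectrum B, Module.finrank (Localization.AtPrime q.asIdeal) (LocalizedModule q.asIdeal.primeCompl M) = k)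
    (p : Ideal A) [p.IsPrime] :
    ∃ f ∉ p, Nonempty (Frame f B (Fin n)) ∧ Nonempty (Frame (algebraMap A B f) M (Fin k)) := by
  obtain ⟨f₁, h₁, ⟨F⟩⟩ := exists_frame (A := A) M k hM p
  obtain ⟨f₂, h₂, ⟨G⟩⟩ := exists_frame (A := A) (B := A) B n hn p
  refine ⟨f₁ * f₂, fun h => (Ideal.IsPrime.mem_or_mem ‹p.IsPrime› h).elim h₁ h₂, ⟨?_⟩, ⟨?_⟩⟩
  · exact ((G.cast (g' := f₂) rfl).rescale f₁).cast (mul_comm _ _)
  · exact (F.rescale (algebraMap A B f₂)).cast (map_mul _ _ _).symm

end Groth.Agent.NormDetLib
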