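import Mathlib

/-!
Ext into anything from the reduction of a projective module by a regular sequence.
-/

set_option autoImplicit false
set_option linter.style.haveILetI false

universe u

open CategoryTheory RingTheory.Sequence Pointwise
open scoped TensorProduct

namespace Groth.Agent.NormDetLib

theorem ext_reduction_projective (A : Type u) [CommRing A] (Q : Type u) [AddCommGroup Q] [Module A Q]
    [Module.Projective A Q] (xs : List A) (hreg : IsWeaklyRegular A xs) :
    HasProjectiveDimensionLT (ModuleCat.of A (Q ⧸ (Ideal.ofList xs • ⊤ : Submodule A Q))) (xs.length + 1) ∧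
      ∀ (M : Type u) [AddCommGroup M] [Module A M],
        Nonempty (Abelian.Ext (ModuleCat.of A (Q ⧸ (Ideal.ofList xs • ⊤ : Submodule A Q))) (ModuleCat.of A M) xs.length
          ≃ₗ[A] ((Q →ₗ[A] M) ⧸ (Ideal.ofList xs • (⊤ : Submodule A (Q →ₗ[A] M))))) := by
  induction xs using List.reverseRecOn with
  | nil =>
    let e : (Q ⧸ (Ideal.ofList ([] : List A) • ⊤ : Submodule A Q)) ≃ₗ[A] Q :=
      Submodule.quotEquivOfEqBot _ (by rw [Ideal.ofList_nil, Submodule.bot_smul])
    refine ⟨?_, fun M _ _ => ?_⟩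
    · haveI : Projective (ModuleCat.of A (Q ⧸ (Ideal.ofList ([] : List A) • ⊤ : Submodule A Q))) :=
        Projective.of_iso e.toModuleIso.symm ((IsProjective.iff_projective _).mp (inferInstance : Module.Projective A Q))
      exact (inferInstanceAs (HasProjectiveDimensionLT _ 1))
    · let a1 : Abelian.Ext (ModuleCat.of A (Q ⧸ (Ideal.ofList ([] : List A) • ⊤ : Submodule A Q))) (ModuleCat.of A M) 0 ≃ₗ[A]
          (ModuleCat.of A (Q ⧸ (Ideal.ofList ([] : List A) • ⊤ : Submodule A Q)) ⟶ ModuleCat.of A M) := Abelian.Ext.linearEquiv₀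
      let a2 : (ModuleCat.of A (Q ⧸ (Ideal.ofList ([] : List A) • ⊤ : Submodule A Q)) ⟶ ModuleCat.of A M) ≃ₗ[A]
          ((Q ⧸ (Ideal.ofList ([] : List A) • ⊤ : Submodule A Q)) →ₗ[A] M) := ModuleCat.homLinearEquiv
      let a3 : ((Q ⧸ (Ideal.ofList ([] : List A) • ⊤ : Submodule A Q)) →ₗ[A] M) ≃ₗ[A]
          ((Q →ₗ[A] M) ⧸ (Ideal.ofList ([] : List A) • (⊤ : Submodule A (Q →ₗ[A] M)))) :=
        (e.arrowCongr (LinearEquiv.refl A M)).trans
          (Submodule.quotEquivOfEqBot _ (by rw [Ideal.ofList_nil, Submodule.bot_smul])).symm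
      exact ⟨a1.trans (a2.trans a3)⟩
  | append_singleton ys x ih =>
    rw [isWeaklyRegular_append_iff, isWeaklyRegular_cons_iff] at hreg
    obtain ⟨hys, hx, -⟩ := hreg
    obtain ⟨hpd, heq⟩ := ih hys
    let J := Ideal.ofList ys
    let N := ModuleCat.of A (Q ⧸ (J • ⊤ : Submodule A Q))
    have hxN : IsSMulRegular N x := by
      have hJ : (J • ⊤ : Submodule A A) = J := by rw [smul_eq_mul, Ideal.mul_top]
      have h0 : IsSMulRegular (A ⧸ J) x := ((Submodule.quotEquivOfEq _ _ hJ).isSMulRegular_congr x).mp hx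
      have h1 : IsSMulRegular (Q ⊗[A] (A ⧸ J)) x := IsSMulRegular.lTensor _ h0
      exact ((TensorProduct.tensorQuotEquivQuotSMul Q J).isSMulRegular_congr x).mp h1
    have hS := hxN.smulShortComplex_shortExact
    have hlen : (ys ++ [x]).length = ys.length + 1 := by simp
    haveI h3 : HasProjectiveDimensionLT (N.smulShortComplex x).X₃ (ys.length + 1 + 1) :=
      hS.hasProjectiveDimensionLT_X₃ (ys.length + 1) hpd (hasProjectiveDimensionLT_of_ge N (ys.length + 1) _ (by omega))
    let e3 : QuotSMulTop x (Q ⧸ (J • ⊤ : Submodule A Q)) ≃ₗ[A] (Q ⧸ (Ideal.ofList (ys ++ [x]) • ⊤ : Submodule A Q)) :=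
      (Submodule.quotEquivOfEq _ _ (show x • (⊤ : Submodule A (Q ⧸ (J • ⊤ : Submodule A Q))) = (x • (⊤ : Submodule A Q)).map (J • ⊤ : Submodule A Q).mkQ by
        rw [Submodule.map_pointwise_smul, Submodule.map_top, Submodule.range_mkQ])).trans
      ((Submodule.quotientQuotientEquivQuotientSup _ _).trans (Submodule.quotEquivOfEq _ _ (by
        rw [Ideal.ofList_append, Ideal.ofList_singleton, Submodule.sup_smul, Submodule.ideal_span_singleton_smul])))
    let i3 : (N.smulShortComplex x).X₃ ≅ ModuleCat.of A (Q ⧸ (Ideal.ofList (ys ++ [x]) • ⊤ : Submodule A Q)) := e3.toModuleIso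
    refine ⟨hlen ▸ hasProjectiveDimensionLT_of_iso i3 _, fun M _ _ => ?_⟩
    obtain ⟨φ⟩ := heq M
    let H := Q →ₗ[A] M
    let Y := ModuleCat.of A M
    let D : Abelian.Ext N Y ys.length →ₗ[A] Abelian.Ext (N.smulShortComplex x).X₃ Y (ys ++ [x]).length :=
      hS.extClass.precompOfLinear A Y (show 1 + ys.length = (ys ++ [x]).length by omega)
    have hsurj : Function.Surjective D := fun z =>
      Abelian.Ext.contravariant_sequence_exact₃ hS Y z
        (Abelian.Ext.eq_zero_of_hasProjectiveDimensionLT (X := N) _ (ys.length + 1) (by omega)) (by omega)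
    have hf : ∀ z : Abelian.Ext N Y ys.length,
        (Abelian.Ext.mk₀ (N.smulShortComplex x).f).comp z (zero_add _) = x • z := fun z => by
      show (Abelian.Ext.mk₀ (x • 𝟙 N)).comp z (zero_add _) = _
      rw [Abelian.Ext.mk₀_smul, Abelian.Ext.smul_comp,
        Abelian.Ext.mk₀_id_comp]
    have hker : LinearMap.ker D = x • ⊤ := by
      ext z
      rw [LinearMap.mem_ker, Submodule.mem_smul_pointwise_iff_exists]
      constructor
      · intro hz
        obtain ⟨w, hw⟩ := Abelian.Ext.contravariant_sequence_exact₁ hS Y z (show 1 + ys.length = (ys ++ [x]).length by omega) hz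
        exact ⟨w, trivial, (hf w).symm.trans hw⟩
      · rintro ⟨w, -, rfl⟩
        rw [← hf w]
        exact hS.extClass_comp_assoc _ (h := (show 1 + ys.length = (ys ++ [x]).length by omega))
    let e : Abelian.Ext (N.smulShortComplex x).X₃ Y (ys ++ [x]).length ≃ₗ[A] QuotSMulTop x (H ⧸ (J • ⊤ : Submodule A H)) :=
      (D.quotKerEquivOfSurjective hsurj).symm.trans ((Submodule.quotEquivOfEq _ _ hker).trans (QuotSMulTop.congr x φ))
    let i : Abelian.Ext (ModuleCat.of A (Q ⧸ (Ideal.ofList (ys ++ [x]) • ⊤ : Submodule A Q))) Y (ys ++ [x]).length ≃ₗ[A]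
        Abelian.Ext (N.smulShortComplex x).X₃ Y (ys ++ [x]).length :=
      LinearEquiv.ofLinear ((Abelian.Ext.mk₀ i3.hom).precompOfLinear A Y (zero_add _))
        ((Abelian.Ext.mk₀ i3.inv).precompOfLinear A Y (zero_add _))
        (by ext z; simp) (by ext z; simp)
    exact ⟨i.trans (e.trans ((Submodule.quotEquivOfEq _ _ (show x • (⊤ : Submodule A (H ⧸ (J • ⊤ : Submodule A H))) = (x • (⊤ : Submodule A H)).map (J • ⊤ : Submodule A H).mkQ by
      rw [Submodule.map_pointwise_smul, Submodule.map_top, Submodule.range_mkQ])).trans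
      ((Submodule.quotientQuotientEquivQuotientSup _ _).trans (Submodule.quotEquivOfEq _ _ (by
        rw [Ideal.ofList_append, Ideal.ofList_singleton, Submodule.sup_smul, Submodule.ideal_span_singleton_smul])))))⟩

/-- Self-extensions in top degree of the reduction of a module with scalar endomorphisms. -/
theorem ext_reduction_self (A : Type u) [CommRing A] (Q : Type u) [AddCommGroup Q] [Module A Q]
    [Module.Projective A Q] (xs : List A) (hreg : IsWeaklyRegular A xs) (e : (Q →ₗ[A] Q) ≃ₗ[A] A) :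
    Nonempty (Abelian.Ext (ModuleCat.of A (Q ⧸ (Ideal.ofList xs • ⊤ : Submodule A Q))) (ModuleCat.of A Q) xs.length
      ≃ₗ[A] (A ⧸ Ideal.ofList xs)) := by
  obtain ⟨-, h⟩ := ext_reduction_projective A Q xs hreg
  obtain ⟨φ⟩ := h Q
  exact ⟨φ.trans (Submodule.Quotient.equiv _ _ e (by
    rw [Submodule.map_smul'', Submodule.map_top, LinearEquiv.range, smul_eq_mul, Ideal.mul_top]))⟩

end Groth.Agent.NormDetLib
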