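import Groth.Agent.NormDetLib.Basic
import Mathlib.RingTheory.LocalRing.Module
import Mathlib.RingTheory.Spectrum.Prime.FreeLocus
import Mathlib.RingTheory.QuasiFinite.Basic

/-!
Existence of frames near a prime of the base.
-/

set_option autoImplicit false
set_option linter.style.haveILetI false

universe u

open scoped TensorProduct

namespace Groth.Agent.NormDetLib

variable {A B : Type u} [CommRing A] [CommRing B] [Algebra A B]

theorem finite_maximalSpectrum [Module.Finite A B] (p : Ideal A) [p.IsPrime] :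
    Finite (MaximalSpectrum (Localization (Algebra.algebraMapSubmonoid B p.primeCompl))) := by
  let S := Algebra.algebraMapSubmonoid B p.primeCompl
  let T := Localization S
  have key : ∀ Q : MaximalSpectrum T, Q.asIdeal.comap (algebraMap B T) ∈ p.primesOver B := by
    intro Q
    haveI := Q.isMaximal
    obtain ⟨hq, hd⟩ := (IsLocalization.isPrime_iff_isPrime_disjoint S T Q.asIdeal).1 Q.isMaximal.isPrime
    have hle : (Q.asIdeal.comap (algebraMap B T)).comap (algebraMap A B) ≤ p := fun a ha => by
      by_contra hp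
      exact Set.disjoint_left.1 hd ⟨a, hp, rfl⟩ ha
    obtain ⟨q', hq', hq'p, hq'c⟩ := Ideal.exists_ideal_over_prime_of_isIntegral p _ hle
    have hd' : Disjoint (S : Set B) (q' : Set B) := Set.disjoint_left.2 fun b hb hb' => by
      obtain ⟨a, ha, rfl⟩ := hb
      exact ha (hq'c ▸ hb')
    have hP := IsLocalization.isPrime_of_isPrime_disjoint S T q' hq'p hd'
    have h1 : Q.asIdeal ≤ q'.map (algebraMap B T) := by
      rw [← IsLocalization.map_comap S T Q.asIdeal]
      exact Ideal.map_mono hq'
    have h2 := Q.isMaximal.eq_of_le hP.ne_top h1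
    refine ⟨hq, ⟨?_⟩⟩
    rw [← hq'c, h2]
    exact (congrArg (Ideal.comap (algebraMap A B)) (IsLocalization.comap_map_of_isPrime_disjoint S T hq'p hd')).symm
  haveI := (Algebra.QuasiFinite.finite_primesOver (S := B) p).to_subtype
  refine Finite.of_injective (fun Q => (⟨_, key Q⟩ : p.primesOver B)) fun Q Q' h => MaximalSpectrum.ext ?_
  have := congrArg (fun q : p.primesOver B => Ideal.map (algebraMap B T) q.1) h
  simp only at this
  rwa [IsLocalization.map_comap S T, IsLocalization.map_comap S T] at this

/-- Near a prime of the base, a finite projective module over a finite algebra has a frame. -/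
theorem exists_frame [Module.Finite A B] (M : Type u) [AddCommGroup M] [Module B M] [Module.Finite B M]
    [Module.Projective B M] (k : ℕ)
    (hM : ∀ q : PrimeSpectrum B, Module.finrank (Localization.AtPrime q.asIdeal) (LocalizedModule q.asIdeal.primeCompl M) = k)
    (p : Ideal A) [p.IsPrime] :
    ∃ f ∉ p, Nonempty (Frame (algebraMap A B f) M (Fin k)) := by
  classical
  let S := Algebra.algebraMapSubmonoid B p.primeCompl
  let T := Localization S
  let N := LocalizedModule S M
  let ℓ : M →ₗ[B] N := LocalizedModule.mkLinearMap S M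
  haveI := finite_maximalSpectrum (B := B) p
  haveI : Module.Finite T N := Module.Finite.of_isLocalizedModule S ℓ
  have hbc := IsLocalizedModule.isBaseChange S T ℓ
  haveI : Module.Flat T N := Module.Flat.isBaseChange B T M N hbc
  obtain ⟨b⟩ := Module.nonempty_basis_of_flat_of_finrank_eq T N k fun P => by
    haveI := P.2
    letI := Ideal.Quotient.field P.asIdeal
    rw [← show Module.rankAtStalk ((T ⧸ P.asIdeal) ⊗[T] N) (⊥ : PrimeSpectrum (T ⧸ P.asIdeal)) = Module.finrank (T ⧸ P.asIdeal) ((T ⧸ P.asIdeal) ⊗[T] N) by rw [Module.rankAtStalk_eq_finrank_of_free]; rfl, Module.rankAtStalk_baseChange,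
      Module.rankAtStalk_isBaseChange hbc]
    exact hM _
  haveI : Module.FinitePresentation B M := Module.finitePresentation_of_projective B M
  let c : Fin k → (M →ₗ[B] T) := fun i => ((b.coord i).restrictScalars B) ∘ₗ ℓ
  choose φ s hφ using fun i => Module.FinitePresentation.exists_lift_of_isLocalizedModule S (Algebra.linearMap B T) (c i)
  choose xt hxt using fun j => IsLocalizedModule.surj S ℓ (b j)
  let s₀ : B := ∏ i, (s i : B)
  let t₀ : B := ∏ j, ((xt j).2 : B)
  have hs₀ : s₀ ∈ S := Submonoid.prod_mem _ fun i _ => (s i).2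
  have ht₀ : t₀ ∈ S := Submonoid.prod_mem _ fun j _ => (xt j).2.2
  let x : Fin k → M := fun j => (∏ j' ∈ Finset.univ.erase j, ((xt j').2 : B)) • (xt j).1
  let ψ : M →ₗ[B] (Fin k → B) := LinearMap.pi fun i => (∏ i' ∈ Finset.univ.erase i, (s i' : B)) • φ i
  have hx : ∀ j, ℓ (x j) = t₀ • b j := fun j => by
    simp only [x, map_smul]
    rw [← hxt j, Submonoid.smul_def, smul_smul, Finset.prod_erase_mul _ _ (Finset.mem_univ j)]
  have hψ : ∀ m i, algebraMap B T (ψ m i) = algebraMap B T s₀ * b.repr (ℓ m) i := fun m i => by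
    have h : algebraMap B T (φ i m) = algebraMap B T (s i) * b.repr (ℓ m) i := by
      have := LinearMap.congr_fun (hφ i) m
      simpa [c, Algebra.smul_def, Submonoid.smul_def, Module.Basis.coord_apply] using this
    simp only [ψ, LinearMap.pi_apply, LinearMap.smul_apply, smul_eq_mul, map_mul, h]
    rw [← mul_assoc, ← map_mul, Finset.prod_erase_mul _ _ (Finset.mem_univ i)]
  have h1 : ℓ ∘ₗ (∑ i, (LinearMap.proj i ∘ₗ ψ).smulRight (x i)) = ℓ ∘ₗ ((s₀ * t₀) • LinearMap.id) := by
    refine LinearMap.ext fun m => ?_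
    simp only [LinearMap.coe_comp, Function.comp_apply, LinearMap.coe_sum, Finset.sum_apply,
      LinearMap.smulRight_apply, LinearMap.coe_proj, Function.eval, map_sum, map_smul, LinearMap.smul_apply,
      LinearMap.id_coe, id_eq, hx]
    rw [show (∑ i, ψ m i • t₀ • b i) = ∑ i, (s₀ * t₀) • (b.repr (ℓ m) i • b i) from Finset.sum_congr rfl fun i _ => ?_,
      ← Finset.smul_sum, b.sum_repr]
    rw [← algebraMap_smul T (ψ m i), ← algebraMap_smul T t₀, hψ, ← algebraMap_smul T (s₀ * t₀) (b.repr (ℓ m) i • b i),
      smul_smul, smul_smul, map_mul]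
    congr 1
    ring
  obtain ⟨u, hu⟩ := Module.Finite.exists_smul_of_comp_eq_of_isLocalizedModule S ℓ _ _ h1
  have h2 : ∀ q : Fin k × Fin k, ∃ v : S, v • ψ (x q.1) q.2 = v • (if q.1 = q.2 then s₀ * t₀ else 0) := fun q =>
    IsLocalizedModule.exists_of_eq (S := S) (f := Algebra.linearMap B T) (by
      simp only [Algebra.linearMap_apply, hψ, hx, ← algebraMap_smul T t₀ (b q.1), map_smul, Finsupp.smul_apply,
        Module.Basis.repr_self, smul_eq_mul, Finsupp.single_apply]
      split_ifs <;> simp [map_mul, mul_comm])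
  choose v hv using h2
  let w : B := u.1 * ∏ q, (v q).1
  have hw : w * (s₀ * t₀) ∈ S := mul_mem (mul_mem u.2 (Submonoid.prod_mem _ fun q _ => (v q).2)) (mul_mem hs₀ ht₀)
  obtain ⟨f, hf, hfw⟩ := hw
  refine ⟨f, hf, ⟨{ e := x, φ := w • ψ, sum_eq := fun m => ?_, apply_e := fun i j => ?_ }⟩⟩
  · have hm : u.1 • ∑ i, ψ m i • x i = u.1 • (s₀ * t₀) • m := by
      simpa [Submonoid.smul_def] using LinearMap.congr_fun hu m
    change _ = (algebraMap A B f) • m
    rw [hfw]
    simp only [LinearMap.smul_apply, Pi.smul_apply, smul_eq_mul, mul_smul, ← Finset.smul_sum, w]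
    rw [smul_comm (u : B), hm, mul_smul, ← smul_comm (u : B)]
  · change _ = if i = j then algebraMap A B f else 0
    rw [hfw]
    have hij := hv (i, j)
    simp only [Submonoid.smul_def, smul_eq_mul] at hij
    have hw' : w = (u.1 * ∏ q ∈ Finset.univ.erase (i, j), (v q).1) * (v (i, j)).1 := by
      rw [mul_assoc, Finset.prod_erase_mul _ _ (Finset.mem_univ _)]
    simp only [LinearMap.smul_apply, Pi.smul_apply, smul_eq_mul]
    rw [hw', mul_assoc, hij]
    split_ifs <;> ring

end Groth.Agent.NormDetLib
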