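import Groth.Agent.NormDetLib.Blocks

/-!
The determinant of a tensor product of invertible modules.
-/

set_option autoImplicit false
set_option linter.style.haveILetI false
set_option maxHeartbeats 400000

universe u

open scoped TensorProduct

namespace Groth.Agent.NormDetLib

theorem dMat_det_mul {A : Type u} [CommRing A] {B : Type u} [CommRing B] [Algebra A B] {g : A} {n : ℕ}
    (G : Frame g B (Fin n)) (b c : B) :
    (dMat G b).det * (dMat G c).det = g ^ n * (dMat G (b * c)).det := by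
  rw [← Matrix.det_mul, dMat_mul, Matrix.det_smul, Fintype.card_fin]

theorem nonempty_equiv_det_tensor (A B : Type u) [CommRing A] [CommRing B] [Algebra A B] [Module.Finite A B]
    [Module.Projective A B] (n : ℕ)
    (hn : ∀ q : PrimeSpectrum A, Module.finrank (Localization.AtPrime q.asIdeal) (LocalizedModule q.asIdeal.primeCompl B) = n)
    (M₁ M₂ : Type u) [AddCommGroup M₁] [Module B M₁] [Module A M₁] [IsScalarTower A B M₁]
    [AddCommGroup M₂] [Module B M₂] [Module A M₂] [IsScalarTower A B M₂]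
    [Module.Finite B M₁] [Module.Projective B M₁] [Module.Finite B M₂] [Module.Projective B M₂]
    (h₁ : ∀ q : PrimeSpectrum B, Module.finrank (Localization.AtPrime q.asIdeal) (LocalizedModule q.asIdeal.primeCompl M₁) = 1)
    (h₂ : ∀ q : PrimeSpectrum B, Module.finrank (Localization.AtPrime q.asIdeal) (LocalizedModule q.asIdeal.primeCompl M₂) = 1) :
    Nonempty ((⋀[A]^n B) ⊗[A] (⋀[A]^n (M₁ ⊗[B] M₂)) ≃ₗ[A] (⋀[A]^n M₁) ⊗[A] (⋀[A]^n M₂)) := by
  classical
  let pair : ((↥(⋀[A]^n B) × ↥(⋀[A]^n B)) × (M₁ × M₂)) →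
      ((⋀[A]^n B) ⊗[A] (⋀[A]^n (M₁ ⊗[B] M₂))) × ((⋀[A]^n M₁) ⊗[A] (⋀[A]^n M₂)) := fun zx =>
    (zx.1.1 ⊗ₜ exteriorPower.map n (mu A (zx.2.1 ⊗ₜ[B] zx.2.2)) zx.1.2,
      exteriorPower.map n (mu A zx.2.1) zx.1.1 ⊗ₜ exteriorPower.map n (mu A zx.2.2) zx.1.2)
  refine nonempty_equiv_of_pairs pair fun p hp => ?_
  haveI := hp.isPrime
  obtain ⟨f₁, hf₁, ⟨G₁⟩, ⟨F₁⟩⟩ := exists_frames hn h₁ p
  obtain ⟨f₂, hf₂, -, ⟨F₂⟩⟩ := exists_frames hn h₂ p
  let f := f₁ * f₂
  let G : Frame f B (Fin n) := G₁.rescale f₂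
  let K₁ : Frame (algebraMap A B f) M₁ (Fin 1) := (F₁.rescale (algebraMap A B f₂)).cast (map_mul _ _ _).symm
  let K₂ : Frame (algebraMap A B f) M₂ (Fin 1) :=
    (F₂.rescale (algebraMap A B f₁)).cast (by rw [← map_mul, mul_comm])
  let x₀ := K₁.e 0
  let y₀ := K₂.e 0
  have hx₁ : ∀ x : M₁, f • x = K₁.φ x 0 • x₀ := fun x => by
    rw [← algebraMap_smul B f x, ← K₁.sum_eq, Fin.sum_univ_one]
  have hx₂ : ∀ y : M₂, f • y = K₂.φ y 0 • y₀ := fun y => by
    rw [← algebraMap_smul B f y, ← K₂.sum_eq, Fin.sum_univ_one]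
  let top := exteriorPower.ιMulti A n G.e
  have hP : IsGen f top := G.isGen_top (pow_one f).symm (Equiv.refl _)
  have top_gen : ∀ {M : Type u} [AddCommGroup M] [Module B M] [Module A M] [IsScalarTower A B M] {s : ℕ}
      (K : Frame (algebraMap A B (f ^ s)) M (Fin 1)), IsGen f (exteriorPower.map n (mu A (K.e 0)) top) := by
    intro M _ _ _ _ s K
    have H := (K.comp G).isGen_top (pow_succ f s).symm (Equiv.uniqueProd (Fin n) (Fin 1))
    rw [exteriorPower.map_apply_ιMulti]
    convert H using 2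
    funext j
    simp [Frame.comp, Subsingleton.elim (0 : Fin 1)]
  let K₁₂ : Frame (algebraMap A B (f ^ 2)) (M₁ ⊗[B] M₂) (Fin 1) :=
    Frame.ofGen (x₀ ⊗ₜ y₀) (LinearMap.mul' B B ∘ₗ TensorProduct.map ((LinearMap.proj 0).comp K₁.φ) ((LinearMap.proj 0).comp K₂.φ))
      (by simp [x₀, y₀, K₁.apply_e, K₂.apply_e, pow_two])
      (fun z => by
        induction z using TensorProduct.induction_on with
        | zero => simp
        | add a b ha hb => simp only [map_add, add_smul, smul_add, ha, hb]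
        | tmul a b =>
          simp only [LinearMap.coe_comp, Function.comp_apply, TensorProduct.map_tmul, LinearMap.mul'_apply,
            LinearMap.coe_proj, Function.eval]
          rw [← TensorProduct.smul_tmul_smul, ← hx₁, ← hx₂, algebraMap_smul, TensorProduct.tmul_smul,
            ← TensorProduct.smul_tmul', smul_smul, ← pow_two])
  refine ⟨f, fun h => (Ideal.IsPrime.mem_or_mem ‹p.IsPrime› h).elim hf₁ hf₂, ((top, top), (x₀, y₀)),
    hP.tensor (top_gen K₁₂), (top_gen (s := 1) (K₁.cast (by rw [pow_one]))).tensor (top_gen (s := 1) (K₂.cast (by rw [pow_one]))), ?_⟩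
  rintro ⟨⟨z, w⟩, ⟨x, y⟩⟩
  obtain ⟨φ, s₀, -, hφ⟩ := hP
  have step1 : f ^ (s₀ + s₀) • pair ((z, w), (x, y)) = (φ z * φ w) • pair ((top, top), (x, y)) := by
    refine Prod.ext ?_ ?_ <;> simp only [pair, Prod.smul_fst, Prod.smul_snd] <;>
      rw [pow_add, ← TensorProduct.smul_tmul_smul, ← TensorProduct.smul_tmul_smul]
    · rw [← LinearMap.map_smul _ (f ^ s₀) w, ← hφ z, ← hφ w, map_smul]
    · rw [← LinearMap.map_smul _ (f ^ s₀) z, ← LinearMap.map_smul _ (f ^ s₀) w, ← hφ z, ← hφ w, map_smul, map_smul]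
  let b := K₁.φ x 0
  let c := K₂.φ y 0
  have key : ∀ {M : Type u} [AddCommGroup M] [Module B M] [Module A M] [IsScalarTower A B M] (r : A) (d : B) (x x' : M),
      r • x = d • x' → (r * f) ^ n • exteriorPower.map n (mu A x) top =
        (dMat G d).det • exteriorPower.map n (mu A x') top := by
    intro M _ _ _ _ r d x x' h
    rw [mul_comm, mul_pow, mul_smul, ← map_smul_top, ← mu_smul, h, map_mul_top]
  have hxy : (f * f) • (x ⊗ₜ[B] y) = (b * c) • (x₀ ⊗ₜ[B] y₀) := by
    rw [← TensorProduct.smul_tmul_smul b c, ← hx₁, ← hx₂, TensorProduct.tmul_smul, ← TensorProduct.smul_tmul',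
      smul_smul]
  have step2 : f ^ (n + n + n + n) • pair ((top, top), (x, y)) =
      (f ^ n * (dMat G (b * c)).det) • pair ((top, top), (x₀, y₀)) := by
    refine Prod.ext ?_ ?_ <;> simp only [pair, Prod.smul_fst, Prod.smul_snd]
    · rw [← TensorProduct.tmul_smul, ← TensorProduct.tmul_smul, show n + n + n + n = n + (n + n + n) by ring,
        pow_add, mul_smul, mul_smul]
      have := key (f * f) (b * c) _ _ hxy
      rw [show (f * f * f) ^ n = f ^ (n + n + n) by ring] at this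
      rw [this]
    · rw [← dMat_det_mul, ← TensorProduct.smul_tmul_smul, ← key f b x x₀ (hx₁ x), ← key f c y y₀ (hx₂ y),
        TensorProduct.smul_tmul_smul]
      congr 1
      ring
  exact ⟨_, _, pow_smul_trans' step1 step2⟩
where
  pow_smul_trans' {A : Type u} [CommRing A] {T : Type u} [AddCommMonoid T] [Module A T] {f c d : A} {a b : ℕ}
      {x y z : T} (h : f ^ a • x = c • y) (h' : f ^ b • y = d • z) : f ^ (b + a) • x = (c * d) • z := by
    rw [pow_add, mul_smul, h, smul_comm, h', smul_smul]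

end Groth.Agent.NormDetLib
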