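import Groth.Agent.NormDetLib.Blocks

/-!
The determinant of the restriction of scalars of a projective module.
-/

set_option autoImplicit false
set_option linter.style.haveILetI false
set_option maxHeartbeats 400000

universe u

open scoped TensorProduct

namespace Groth.Agent.NormDetLib

theorem pow_smul_trans {A : Type u} [CommRing A] {T : Type u} [AddCommMonoid T] [Module A T] {f c d : A} {a b : ℕ}
    {x y z : T} (h : f ^ a • x = c • y) (h' : f ^ b • y = d • z) : f ^ (b + a) • x = (c * d) • z := by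
  rw [pow_add, mul_smul, h, smul_comm, h', smul_smul]

theorem nonempty_equiv_det_restrictScalars (A B : Type u) [CommRing A] [CommRing B] [Algebra A B]
    [Module.Finite A B] [Module.Projective A B] (n : ℕ)
    (hn : ∀ q : PrimeSpectrum A, Module.finrank (Localization.AtPrime q.asIdeal) (LocalizedModule q.asIdeal.primeCompl B) = n)
    (M : Type u) [AddCommGroup M] [Module B M] [Module A M] [IsScalarTower A B M]
    [Module.Finite B M] [Module.Projective B M] (m : ℕ)
    (hM : ∀ q : PrimeSpectrum B, Module.finrank (Localization.AtPrime q.asIdeal) (LocalizedModule q.asIdeal.primeCompl M) = m + 1) :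
    Nonempty ((⋀[A]^((m + 1) * n) M) ≃ₗ[A]
      (TensorPower A m (⋀[A]^n B)) ⊗[A] (⋀[A]^n (⋀[B]^(m + 1) M))) := by
  classical
  letI : AddCommGroup ((TensorPower A m (⋀[A]^n B)) ⊗[A] (⋀[A]^n (⋀[B]^(m + 1) M))) :=
    Module.addCommMonoidToAddCommGroup A
  let pair : ((Fin (m + 1) → ↥(⋀[A]^n B)) × (Fin (m + 1) → M)) →
      ((TensorPower A m (⋀[A]^n B)) ⊗[A] (⋀[A]^n (⋀[B]^(m + 1) M))) × ↥(⋀[A]^((m + 1) * n) M) := fun zx =>
    (PiTensorProduct.tprod A (fun l => zx.1 (Fin.castSucc l)) ⊗ₜ
        exteriorPower.map n (mu A (exteriorPower.ιMulti B (m + 1) zx.2)) (zx.1 (Fin.last m)),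
      prodWedge zx.2 zx.1)
  refine (nonempty_equiv_of_pairs pair fun p hp => ?_).map LinearEquiv.symm
  haveI := hp.isPrime
  obtain ⟨f, hfp, ⟨G⟩, ⟨F⟩⟩ := exists_frames hn hM p
  let top := exteriorPower.ιMulti A n G.e
  let X := exteriorPower.ιMulti B (m + 1) F.e
  let E : Fin (m + 1) → ↥(⋀[A]^n B) := fun _ => top
  have hP : IsGen f top := G.isGen_top (pow_one f).symm (Equiv.refl _)
  refine ⟨f, hfp, (E, F.e), ?_, ?_, ?_⟩
  · refine (hP.tensorPower m).tensor ?_
    obtain ⟨φ, s, h1, h2⟩ := F.isGen_top (f := algebraMap A B f) (pow_one _).symm (Equiv.refl _)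
    let H := ((Frame.ofGen (g := algebraMap A B (f ^ s)) X φ (by rw [map_pow]; exact h1)
      (fun z => by rw [map_pow]; exact h2 z)).comp G).isGen_top (pow_succ f s).symm (Equiv.uniqueProd (Fin n) (Fin 1))
    rw [exteriorPower.map_apply_ιMulti]
    exact H
  · have hF := (F.comp G).isGen_top (f := f) (s := 2) (pow_two f).symm (finProdFinEquiv (m := m + 1) (n := n))
    show IsGen f (prodWedge F.e fun _ => top)
    rw [prodWedge_const]
    exact hF
  rintro ⟨z, x⟩
  obtain ⟨φ, s₀, -, hφ⟩ := hP
  have step1 : f ^ (s₀ * (m + 1)) • pair (z, x) = (∏ l, φ (z l)) • pair (E, x) := by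
    have hz : (fun l => f ^ s₀ • z l) = fun l => φ (z l) • E l := funext fun l => (hφ (z l)).symm
    have hpair : ∀ (c : Fin (m + 1) → A) (w : Fin (m + 1) → ↥(⋀[A]^n B)),
        pair (fun l => c l • w l, x) = (∏ l, c l) • pair (w, x) := by
      intro c w
      refine Prod.ext ?_ ?_
      · simp only [pair, Prod.smul_fst]
        rw [MultilinearMap.map_smul_univ (PiTensorProduct.tprod A) (fun l => c (Fin.castSucc l))
          (fun l => w (Fin.castSucc l)), map_smul, TensorProduct.smul_tmul_smul, ← Fin.prod_univ_castSucc]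
      · exact MultilinearMap.map_smul_univ _ c w
    rw [← hpair, ← hz, hpair, Finset.prod_const, Finset.card_univ, Fintype.card_fin, ← pow_mul]
  let Gm : Matrix (Fin (m + 1)) (Fin (m + 1)) B := Matrix.of fun i l => F.φ (x i) l
  have hx : ∀ i, algebraMap A B f • x i = ∑ l, Gm i l • F.e l := fun i => (F.sum_eq (x i)).symm
  obtain ⟨s, hs⟩ := exists_det_block G Gm
  rw [Fintype.card_fin] at hs
  let T : ℕ := (m + 1) * n
  let D := (Matrix.comp (Fin (m + 1)) (Fin (m + 1)) (Fin n) (Fin n) A (Gm.map (dMat G))).det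
  let a1 := exteriorPower.map n (mu A (exteriorPower.ιMulti B (m + 1) x)) top
  let a0 := exteriorPower.map n (mu A X) top
  have hA1 : f ^ (T + n) • a1 = (dMat G Gm.det).det • a0 := by
    have hw := pow_smul_ιMulti x F.e Gm _ hx
    rw [← map_pow, algebraMap_smul] at hw
    have := map_mul_top G Gm.det X
    rw [← hw, mu_smul, map_smul_top, smul_smul, ← pow_mul, ← pow_add, add_comm n] at this
    exact this
  have hA2 : f ^ (T + T) • prodWedge x E = D • prodWedge F.e E := by
    have := prodWedge_blocks G x F.e Gm fun i => by rw [← hx, algebraMap_smul]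
    rwa [mul_pow, ← pow_add] at this
  have h1 : f ^ (s + n + T + T) • a1 = (f ^ s * (f ^ n * D)) • a0 := by
    rw [show s + n + T + T = s + T + (T + n) by ring, pow_add, mul_smul, hA1, smul_smul, pow_add, mul_assoc, hs]
  have step2 : f ^ (s + n + T + T) • pair (E, x) = (f ^ s * (f ^ n * D)) • pair (E, F.e) := by
    refine Prod.ext ?_ ?_
    · simp only [pair, Prod.smul_fst, ← TensorProduct.tmul_smul]
      exact congrArg _ h1
    · show f ^ (s + n + T + T) • prodWedge x E = (f ^ s * (f ^ n * D)) • prodWedge F.e E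
      rw [show s + n + T + T = s + n + (T + T) by ring, pow_add, mul_smul, hA2, smul_smul, pow_add, mul_assoc]
  exact ⟨s + n + T + T + s₀ * (m + 1), (∏ l, φ (z l)) * (f ^ s * (f ^ n * D)),
    pow_smul_trans step1 step2⟩

end Groth.Agent.NormDetLib
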