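import Mathlib.RingTheory.Regular.RegularSequence
import Mathlib.RingTheory.Ideal.Cotangent
import Mathlib.LinearAlgebra.Basis.Basic

/-!
The cotangent module of a regular sequence is free.
-/

set_option autoImplicit false
set_option linter.style.haveILetI false

universe u

namespace Groth.Agent.NormDetLib

variable {P : Type u} [CommRing P] {r : ℕ} (F : Fin r → P)

theorem syzygy_mem (hreg : RingTheory.Sequence.IsWeaklyRegular P (List.ofFn F)) :
    ∀ k ≤ r, ∀ c : Fin r → P, (∀ i : Fin r, k ≤ i.1 → c i = 0) → ∑ i, c i * F i = 0 →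
      ∀ i, c i ∈ Ideal.span (Set.range F) := by
  classical
  intro k
  induction k with
  | zero => intro _ c hc _ i; simp [hc i (Nat.zero_le _)]
  | succ k ih =>
    intro hk c hc hsum i
    let κ : Fin r := ⟨k, hk⟩
    let J : Ideal P := Ideal.ofList ((List.ofFn F).take k)
    have hJ : J = Ideal.span (Set.range fun j : Fin k => F ⟨j, j.2.trans hk⟩) := by
      show Ideal.span _ = _
      congr 1
      ext x
      simp only [List.mem_take_iff_getElem, List.length_ofFn, List.getElem_ofFn, Set.mem_range, Set.mem_ofPred_eq]
      constructor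
      · rintro ⟨j, hj, rfl⟩
        exact ⟨⟨j, (lt_min_iff.1 hj).1⟩, rfl⟩
      · rintro ⟨j, rfl⟩
        exact ⟨j.1, lt_min j.2 (j.2.trans hk), rfl⟩
    have hmem : F κ • c κ ∈ (J • ⊤ : Submodule P P) := by
      simp only [smul_eq_mul, Ideal.mul_top]
      have : F κ * c κ = -∑ j ∈ Finset.univ.erase κ, c j * F j := by
        rw [eq_neg_iff_add_eq_zero, mul_comm, ← Finset.sum_erase_add _ _ (Finset.mem_univ κ)] at *
        rw [add_comm]
        exact hsum
      rw [this]
      refine J.neg_mem (J.sum_mem fun j hj => ?_)
      rcases Nat.lt_or_ge j.1 k with h | h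
      · refine J.mul_mem_left _ (hJ ▸ Ideal.subset_span ⟨⟨j, h⟩, rfl⟩)
      · have hne : j.1 ≠ k := fun e => (Finset.mem_erase.1 hj).1 (Fin.ext e)
        simp [hc j (by omega)]
    have hreg' := hreg.regular_mod_prev k (by simpa using hk)
    rw [List.getElem_ofFn] at hreg'
    have hck : c κ ∈ (J • ⊤ : Submodule P P) := by
      rw [← Submodule.Quotient.mk_eq_zero] at hmem ⊢
      refine hreg' ?_
      simp only [smul_zero]
      exact hmem
    simp only [smul_eq_mul, Ideal.mul_top] at hck
    rw [hJ] at hck
    obtain ⟨e, he⟩ := (Submodule.mem_span_range_iff_exists_fun P).1 hck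
    let e' : Fin r → P := fun j => if h : j.1 < k then e ⟨j, h⟩ else 0
    have he' : ∑ j, e' j * F j = c κ := by
      rw [← he]
      refine (Fintype.sum_of_injective (fun j : Fin k => (⟨j, j.2.trans hk⟩ : Fin r)) ?_ _ _ ?_ ?_).symm
      · intro a b h
        exact Fin.ext (by simpa using congrArg Fin.val h)
      · intro j hj
        have : ¬ j.1 < k := fun h => hj ⟨⟨j, h⟩, rfl⟩
        simp [e', this]
      · intro j
        simp [e', j.2]
    have hck' : c κ ∈ Ideal.span (Set.range F) := by
      rw [← he']
      exact Ideal.sum_mem _ fun j _ => Ideal.mul_mem_left _ _ (Ideal.subset_span ⟨j, rfl⟩)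
    let c' : Fin r → P := fun j => if j = κ then 0 else c j + e' j * F κ
    have h' := ih (Nat.le_of_succ_le hk) c' (fun j hj => by
      simp only [c']
      split_ifs with h
      · rfl
      · have hne : j.1 ≠ k := fun e => h (Fin.ext e)
        simp [e', hc j (by omega), show ¬ j.1 < k by omega]) (by
      have : ∀ j, c' j * F j = c j * F j + F κ * (e' j * F j) - if j = κ then c κ * F κ else 0 := fun j => by
        simp only [c']
        split_ifs with h
        · subst h
          simp [e', κ]
        · ring
      simp only [this, Finset.sum_sub_distrib, Finset.sum_add_distrib, ← Finset.mul_sum, he', hsum,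
        Finset.sum_ite_eq', Finset.mem_univ, if_true]
      ring) i
    simp only [c'] at h'
    split_ifs at h' with h
    · exact h ▸ hck'
    · exact (Ideal.add_mem_iff_left (Ideal.span (Set.range F)) (Ideal.mul_mem_left _ _ (Ideal.subset_span (Set.mem_range_self κ)))).1 h'

variable (J : Ideal P) (hJ : J = Ideal.span (Set.range F))

/-- The classes of the generators. -/
def cotGen (l : Fin r) : J.Cotangent := J.toCotangent (⟨F l, hJ.ge (Ideal.subset_span ⟨l, rfl⟩)⟩ : J)

theorem cotGen_surjective : Function.Surjective (Fintype.linearCombination P (cotGen F J hJ)) := by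
  intro z
  obtain ⟨⟨x, hx⟩, rfl⟩ := J.toCotangent_surjective z
  obtain ⟨c, hc⟩ := (Submodule.mem_span_range_iff_exists_fun P).1 (hJ.le hx)
  refine ⟨c, ?_⟩
  rw [Fintype.linearCombination_apply]
  simp only [cotGen, ← map_smul, ← map_sum]
  exact congrArg J.toCotangent (Subtype.ext (by simpa using hc))

theorem mem_of_cotGen_eq_zero (hreg : RingTheory.Sequence.IsWeaklyRegular P (List.ofFn F)) {c : Fin r → P}
    (h : Fintype.linearCombination P (cotGen F J hJ) c = 0) (i : Fin r) : c i ∈ J := by
  rw [Fintype.linearCombination_apply] at h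
  simp only [cotGen, ← map_smul, ← map_sum] at h
  rw [Ideal.toCotangent_eq_zero, pow_two] at h
  simp only [AddSubmonoidClass.coe_finsetSum, Submodule.coe_smul, smul_eq_mul] at h
  rw [show J * J = J • Submodule.span P (Set.range F) from congrArg (J * ·) hJ,
    Submodule.mem_ideal_smul_span_iff_exists_sum] at h
  obtain ⟨d, hd, hd'⟩ := h
  rw [Finsupp.sum_fintype _ _ (by simp)] at hd'
  have := syzygy_mem F hreg r le_rfl (fun j => c j - d j) (fun j hj => absurd j.2 (by omega)) (by
    simp only [sub_mul, Finset.sum_sub_distrib]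
    rw [sub_eq_zero]
    simpa [smul_eq_mul] using hd'.symm) i
  rw [← hJ] at this
  exact (Submodule.sub_mem_iff_left _ (hd i)).1 this

/-- The basis of the cotangent module of a regular sequence. -/
noncomputable def cotBasis (hreg : RingTheory.Sequence.IsWeaklyRegular P (List.ofFn F)) :
    Module.Basis (Fin r) (P ⧸ J) J.Cotangent := by
  refine Module.Basis.mk (v := cotGen F J hJ) (Fintype.linearIndependent_iff.2 fun g hg i => ?_) fun z _ => ?_
  · choose c hc using fun j => Ideal.Quotient.mk_surjective (g j)
    have : Fintype.linearCombination P (cotGen F J hJ) c = 0 := by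
      rw [Fintype.linearCombination_apply, ← hg]
      exact Finset.sum_congr rfl fun j _ => by rw [← hc j]; rfl
    rw [← hc i, Ideal.Quotient.eq_zero_iff_mem]
    exact mem_of_cotGen_eq_zero F J hJ hreg this i
  · obtain ⟨c, rfl⟩ := cotGen_surjective F J hJ z
    rw [Fintype.linearCombination_apply]
    exact Submodule.sum_mem _ fun j _ => Submodule.smul_of_tower_mem _ _ (Submodule.subset_span ⟨j, rfl⟩)

end Groth.Agent.NormDetLib
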