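import Groth.Agent.NormDetLib.Blocks
import Mathlib.RingTheory.Regular.RegularSequence

/-!
The determinant of a split exact sequence and the cotangent module of a regular sequence.
-/

set_option autoImplicit false
set_option linter.style.haveILetI false

universe u

open scoped TensorProduct

namespace Groth.Agent.NormDetLib

variable {R : Type u} [CommRing R]

/-- The wedge with fixed first vectors, as an alternating form of the last ones. -/
def detTail {N : Type u} [AddCommGroup N] [Module R N] {r m : ℕ} (u : Fin r → (Fin r ⊕ Fin m → R))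
    (σ : N →ₗ[R] (Fin r ⊕ Fin m → R)) : N [⋀^Fin m]→ₗ[R] R where
  toFun v := Matrix.detRowAlternating (Sum.elim u (σ ∘ v))
  map_update_add' {inst} v i x y := by
    cases Subsingleton.elim inst (inferInstanceAs (DecidableEq (Fin m)))
    simp only [Function.comp_update, ← Sum.update_elim_inr, map_add]
    exact AlternatingMap.map_update_add _ _ _ _ _
  map_update_smul' {inst} v i c x := by
    cases Subsingleton.elim inst (inferInstanceAs (DecidableEq (Fin m)))
    simp only [Function.comp_update, ← Sum.update_elim_inr, map_smul]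
    exact AlternatingMap.map_update_smul _ _ _ _ _
  map_eq_zero_of_eq' v i j h hij :=
    AlternatingMap.map_eq_zero_of_eq _ _ (i := Sum.inr i) (j := Sum.inr j) (by simp [h]) (by simpa using hij)

theorem nonempty_topPower_equiv {r m : ℕ} (N : Type u) [AddCommGroup N] [Module R N]
    (π : (Fin r ⊕ Fin m → R) →ₗ[R] N) (σ : N →ₗ[R] (Fin r ⊕ Fin m → R)) (hσ : ∀ z, π (σ z) = z)
    (u : Fin r → (Fin r ⊕ Fin m → R)) (ρ : (Fin r ⊕ Fin m → R) →ₗ[R] (Fin r → R))
    (hρ : ∀ z, ∑ l, ρ z l • u l + σ (π z) = z) (hu : ∀ z : Fin r → R, ∑ l, z l • u l = 0 → z = 0)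
    (hπu : ∀ c : Fin r → R, π (∑ l, c l • u l) = 0) :
    Nonempty (↥(⋀[R]^m N) ≃ₗ[R] R) := by
  classical
  haveI : Module.Finite R N := Module.Finite.of_surjective π fun z => ⟨σ z, hσ z⟩
  haveI : Module.Projective R N := Module.Projective.of_split σ π (LinearMap.ext hσ)
  have hrk : ∀ q : PrimeSpectrum R,
      Module.finrank (Localization.AtPrime q.asIdeal) (LocalizedModule q.asIdeal.primeCompl N) = m := by
    intro q
    let e : (Fin r ⊕ Fin m → R) ≃ₗ[R] (Fin r → R) × N :=
      { (ρ.prod π) with
        invFun := fun p => ∑ l, p.1 l • u l + σ p.2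
        left_inv := hρ
        right_inv := fun p => by
          have h1 : π (∑ l, p.1 l • u l + σ p.2) = p.2 := by rw [map_add, hπu, zero_add, hσ]
          refine Prod.ext (sub_eq_zero.1 (hu _ ?_)) h1
          have h2 := hρ (∑ l, p.1 l • u l + σ p.2)
          rw [h1, add_left_inj] at h2
          show ∑ l, (ρ (∑ l, p.1 l • u l + σ p.2) - p.1) l • u l = 0
          simpa only [Pi.sub_apply, sub_smul, Finset.sum_sub_distrib, sub_eq_zero] using h2 }
    have h := congrFun (Module.rankAtStalk_eq_of_equiv (R := R) e) q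
    rw [Module.rankAtStalk_prod, Pi.add_apply] at h
    haveI : Nontrivial R := ⟨⟨0, 1, fun h01 => q.2.ne_top (Ideal.eq_top_iff_one _ |>.2 (h01 ▸ q.asIdeal.zero_mem))⟩⟩
    rw [Module.rankAtStalk_eq_finrank_of_free, Module.rankAtStalk_eq_finrank_of_free] at h
    simp only [Module.finrank_fintype_fun_eq_card, Fintype.card_sum, Fintype.card_fin] at h
    show Module.rankAtStalk N q = m
    simp at h ⊢
    omega
  let D := exteriorPower.alternatingMapLinearEquiv (detTail u σ)
  obtain ⟨e⟩ := nonempty_equiv_of_pairs (R := R) (T₁ := ↥(⋀[R]^m N)) (T₂ := R) (fun z => (z, D z))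
    fun p hp => by
    haveI := hp.isPrime
    obtain ⟨f, hf, ⟨F'⟩⟩ := exists_frame (A := R) N m hrk p
    let F : Frame f N (Fin m) := F'.cast (Algebra.algebraMap_self_apply f)
    let top := exteriorPower.ιMulti R m F.e
    have hN : IsGen f top := F.isGen_top (pow_one f).symm (Equiv.refl _)
    refine ⟨f, hf, top, hN, ?_, fun z => ?_⟩
    · let W : Matrix (Fin r ⊕ Fin m) (Fin r ⊕ Fin m) R := Matrix.of (Sum.elim u (σ ∘ F.e))
      let C : Matrix (Fin r ⊕ Fin m) (Fin r ⊕ Fin m) R := Matrix.of fun b =>
        Sum.elim (fun l => f * ρ (Pi.single b 1) l) (fun j => F.φ (π (Pi.single b 1)) j)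
      have hCW : C * W = f • (1 : Matrix (Fin r ⊕ Fin m) (Fin r ⊕ Fin m) R) := by
        ext b c
        have h := congrFun (hρ (Pi.single b 1)) c
        have hs : f • σ (π (Pi.single b 1)) = ∑ j, F.φ (π (Pi.single b 1)) j • σ (F.e j) := by
          rw [← map_smul, ← F.sum_eq, map_sum]
          simp only [map_smul]
        have hs' := congrFun hs c
        simp only [Pi.add_apply, Finset.sum_apply, Pi.smul_apply, smul_eq_mul] at h hs'
        simp only [Matrix.mul_apply, C, W, Matrix.of_apply, Fintype.sum_sum_type, Sum.elim_inl, Sum.elim_inr,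
          Function.comp_apply, Matrix.smul_apply, smul_eq_mul]
        rw [← hs', Finset.sum_congr rfl fun l _ => mul_assoc f _ _, ← Finset.mul_sum, ← mul_add, h]
        simp [Matrix.one_apply, Pi.single_apply, eq_comm]
      have hdet : C.det * D top = f ^ (r + m) := by
        have : D top = W.det := by
          simp only [D, top, exteriorPower.alternatingMapLinearEquiv_apply_ιMulti]
          rfl
        rw [this, ← Matrix.det_mul, hCW, Matrix.det_smul, Matrix.det_one, mul_one, Fintype.card_sum,
          Fintype.card_fin, Fintype.card_fin]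
      refine ⟨C.det • LinearMap.id, r + m, ?_, fun z => ?_⟩
      · simpa using hdet
      · simp only [LinearMap.smul_apply, LinearMap.id_coe, id_eq, smul_eq_mul, ← hdet]
        ring
    · obtain ⟨φ, s, -, hφ⟩ := hN
      exact ⟨s, φ z, by rw [Prod.smul_mk, Prod.smul_mk, ← map_smul, ← hφ, map_smul]⟩
  exact ⟨e⟩

end Groth.Agent.NormDetLib
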