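import Groth.Agent.NormDetLib.Blocks

/-!
The determinant of a split extension of locally free modules by a free one.
-/

set_option autoImplicit false
set_option linter.style.haveILetI false

universe u

open scoped TensorProduct

namespace Groth.Agent.NormDetLib

variable {R : Type u} [CommRing R] {V N : Type u} [AddCommGroup V] [Module R V] [AddCommGroup N] [Module R N]

/-- The wedge with fixed first vectors, as an alternating form of the last ones. -/
noncomputable def wedgeTail {p m : ℕ} (u : Fin p → V) (σ : N →ₗ[R] V) : N [⋀^Fin m]→ₗ[R] ↥(⋀[R]^(p + m) V) :=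
  let e : Fin p ⊕ Fin m ≃ Fin (p + m) := finSumFinEquiv
  let w := (exteriorPower.ιMulti R (p + m) (M := V)).domDomCongr e.symm
  { toFun := fun v => w (Sum.elim u (σ ∘ v))
    map_update_add' := fun v i x y => by
      simp only [Function.comp_update, ← Sum.update_elim_inr, map_add]
      exact AlternatingMap.map_update_add _ _ _ _ _
    map_update_smul' := fun v i c x => by
      simp only [Function.comp_update, ← Sum.update_elim_inr, map_smul]
      exact AlternatingMap.map_update_smul _ _ _ _ _
    map_eq_zero_of_eq' := fun v i j h hij =>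
      AlternatingMap.map_eq_zero_of_eq _ _ (i := Sum.inr i) (j := Sum.inr j) (by simp [h]) (by simpa using hij) }

/-- The top wedge of a split extension by a free module. -/
theorem nonempty_topPower_equiv_of_split [Module.Finite R V] [Module.Projective R V] {p m : ℕ}
    (hV : ∀ q : PrimeSpectrum R, Module.rankAtStalk V q = p + m)
    (π : V →ₗ[R] N) (σ : N →ₗ[R] V) (hσ : ∀ z, π (σ z) = z)
    (u : Fin p → V) (ρ : V →ₗ[R] (Fin p → R))
    (hρ : ∀ z, ∑ l, ρ z l • u l + σ (π z) = z) (hu : ∀ z : Fin p → R, ∑ l, z l • u l = 0 → z = 0)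
    (hπu : ∀ c : Fin p → R, π (∑ l, c l • u l) = 0) :
    Nonempty (↥(⋀[R]^m N) ≃ₗ[R] ↥(⋀[R]^(p + m) V)) := by
  classical
  haveI : Module.Finite R N := Module.Finite.of_surjective π fun z => ⟨σ z, hσ z⟩
  haveI : Module.Projective R N := Module.Projective.of_split σ π (LinearMap.ext hσ)
  have hπu' : ∀ j, π (u j) = 0 := fun j => by
    simpa [Pi.single_apply] using hπu (Pi.single j 1)
  have hρu : ∀ j l, ρ (u j) l = if j = l then 1 else 0 := by
    intro j l
    have h := hρ (u j)
    rw [hπu' j, map_zero, add_zero] at h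
    have := congrFun (hu (ρ (u j) - Pi.single j 1) (by
      simp only [Pi.sub_apply, sub_smul, Finset.sum_sub_distrib, h]
      simp [Pi.single_apply])) l
    simp only [Pi.sub_apply, Pi.zero_apply, Pi.single_apply, sub_eq_zero] at this
    rw [this]
    exact if_congr eq_comm rfl rfl
  have hρσ : ∀ z l, ρ (σ z) l = 0 := by
    intro z l
    have h := hρ (σ z)
    rw [hσ, add_eq_right] at h
    exact congrFun (hu _ h) l
  let e : V ≃ₗ[R] (Fin p → R) × N :=
    { (ρ.prod π) with
      invFun := fun q => ∑ l, q.1 l • u l + σ q.2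
      left_inv := hρ
      right_inv := fun q => by
        refine Prod.ext (funext fun l => ?_) ?_
        · show ρ (∑ l, q.1 l • u l + σ q.2) l = q.1 l
          simp [map_sum, Finset.sum_apply, hρu, hρσ]
        · show π (∑ l, q.1 l • u l + σ q.2) = q.2
          rw [map_add, hπu, zero_add, hσ] }
  have hrk : ∀ q : PrimeSpectrum R,
      Module.finrank (Localization.AtPrime q.asIdeal) (LocalizedModule q.asIdeal.primeCompl N) = m := by
    intro q
    have h := congrFun (Module.rankAtStalk_eq_of_equiv e) q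
    rw [Module.rankAtStalk_prod, Pi.add_apply, hV] at h
    haveI : Nontrivial R := ⟨⟨0, 1, fun h01 => q.2.ne_top (Ideal.eq_top_iff_one _ |>.2 (h01 ▸ q.asIdeal.zero_mem))⟩⟩
    rw [Module.rankAtStalk_eq_finrank_of_free] at h
    simp only [Module.finrank_fintype_fun_eq_card, Fintype.card_fin] at h
    show Module.rankAtStalk N q = m
    simp at h ⊢
    omega
  let D := exteriorPower.alternatingMapLinearEquiv (wedgeTail (m := m) u σ)
  refine nonempty_equiv_of_pairs (fun z => (z, D z)) fun q hq => ?_
  haveI := hq.isPrime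
  obtain ⟨f, hf, ⟨F'⟩⟩ := exists_frame (A := R) N m hrk q
  let F : Frame f N (Fin m) := F'.cast (Algebra.algebraMap_self_apply f)
  let top := exteriorPower.ιMulti R m F.e
  have hN : IsGen f top := F.isGen_top (pow_one f).symm (Equiv.refl _)
  let W : Frame f V (Fin p ⊕ Fin m) :=
    { e := Sum.elim u (σ ∘ F.e)
      φ := LinearMap.pi (Sum.elim (fun l => f • (LinearMap.proj l ∘ₗ ρ)) (fun i => LinearMap.proj i ∘ₗ F.φ ∘ₗ π))
      sum_eq := fun z => by
        conv_rhs => rw [← hρ z, smul_add, Finset.smul_sum, ← map_smul, ← F.sum_eq, map_sum]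
        simp [Fintype.sum_sum_type, smul_smul]
      apply_e := by
        rintro (i | i) (j | j)
        · simp [hρu]
        · simp [hπu']
        · simp [hρσ]
        · simp [hσ, F.apply_e] }
  refine ⟨f, hf, top, hN, ?_, fun z => ?_⟩
  · have h := W.isGen_top (pow_one f).symm finSumFinEquiv
    have : D top = exteriorPower.ιMulti R (p + m) (W.e ∘ finSumFinEquiv.symm) := by
      simp only [D, top, exteriorPower.alternatingMapLinearEquiv_apply_ιMulti]
      rfl
    exact this ▸ h
  · obtain ⟨φ, s, -, hφ⟩ := hN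
    exact ⟨s, φ z, by rw [Prod.smul_mk, Prod.smul_mk, ← map_smul, ← hφ, map_smul]⟩

/-- Endomorphisms of a top wedge are scalars. -/
theorem nonempty_end_equiv {Q : Type u} [AddCommGroup Q] [Module R Q]
    (h : ∀ q : Ideal R, q.IsMaximal → ∃ f ∉ q, ∃ t : Q, IsGen f t) :
    Nonempty ((Q →ₗ[R] Q) ≃ₗ[R] R) := by
  refine ⟨(LinearEquiv.symm (Classical.choice (nonempty_equiv_of_pairs (fun a : R => (a, a • (LinearMap.id : Q →ₗ[R] Q))) fun q hq => ?_)))⟩
  obtain ⟨f, hf, t, φ, s, h1, h2⟩ := h q hq
  refine ⟨f, hf, 1, ⟨LinearMap.id, 0, by simp, fun z => by simp⟩, ?_, fun a => ⟨0, a, by simp⟩⟩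
  refine ⟨f ^ s • (φ ∘ₗ LinearMap.applyₗ t), 2 * s, by simp [h1, two_mul, pow_add], fun g => LinearMap.ext fun z => ?_⟩
  simp only [one_smul, LinearMap.smul_apply, LinearMap.coe_comp, Function.comp_apply, LinearMap.applyₗ_apply_apply,
    smul_eq_mul, LinearMap.id_coe, id_eq]
  rw [two_mul, pow_add, mul_smul, mul_smul, ← map_smul g (f ^ s) z, ← h2 z, map_smul, smul_comm (f ^ s) (φ z),
    ← h2 (g t), smul_comm (f ^ s) (φ (g t)) z, ← h2 z, smul_comm (φ (g t)) (φ z) t]

end Groth.Agent.NormDetLib
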